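import Mathlib

/-! Ext chases: comparison maps and adjunctions between exact functors. -/

set_option autoImplicit false
universe w v u v' u'

open CategoryTheory Limits Abelian

namespace TorsBCLib

variable {C : Type u} [Category.{v} C] [Abelian C] [HasExt.{w} C]

/-- `Ext^j(V, f)`. -/
noncomputable def em (V : C) {X Y : C} (f : X ⟶ Y) (j : ℕ) : Ext.{w} V X j →+ Ext.{w} V Y j :=
  (Ext.mk₀ f).postcomp V (add_zero j)

theorem em_apply (V : C) {X Y : C} (f : X ⟶ Y) {j : ℕ} (x : Ext.{w} V X j) :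
    em V f j x = x.comp (Ext.mk₀ f) (add_zero j) := rfl

theorem em_comp (V : C) {X Y Z : C} (f : X ⟶ Y) (g : Y ⟶ Z) {j : ℕ} (x : Ext.{w} V X j) :
    em V g j (em V f j x) = em V (f ≫ g) j x := by
  simp only [em_apply, Ext.comp_assoc_of_second_deg_zero, Ext.mk₀_comp_mk₀]

theorem em_zero (V : C) {X Y : C} {j : ℕ} (x : Ext.{w} V X j) : em V (0 : X ⟶ Y) j x = 0 := by
  simp [em_apply]

theorem em_id (V : C) {X : C} {j : ℕ} (x : Ext.{w} V X j) : em V (𝟙 X) j x = x := by
  simp [em_apply]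

theorem em_inj_zero (V : C) {X Y : C} (f : X ⟶ Y) [Mono f] :
    Function.Injective (em.{w} V f 0) := Ext.postcomp_mk₀_injective_of_mono V f

theorem em_bijective_of_isIso (V : C) {X Y : C} (f : X ⟶ Y) [IsIso f] (j : ℕ) :
    Function.Bijective (em.{w} V f j) :=
  ⟨Function.LeftInverse.injective (g := em V (inv f) j) fun x => by rw [em_comp, IsIso.hom_inv_id, em_id],
    fun y => ⟨em V (inv f) j y, by rw [em_comp, IsIso.inv_hom_id, em_id]⟩⟩

/-- `f` induces bijections on `Ext^•(V, -)`. -/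
def Good (V : C) {X Y : C} (f : X ⟶ Y) : Prop := ∀ j, Function.Bijective (em.{w} V f j)

variable {V : C}

/-- The connecting map. -/
theorem delta_em {S S' : ShortComplex C} (hS : S.ShortExact) (hS' : S'.ShortExact) (φ : S ⟶ S')
    {j k : ℕ} (h : j + 1 = k) (x : Ext.{w} V S.X₃ j) :
    em V φ.τ₁ k (x.comp hS.extClass h) = (em V φ.τ₃ j x).comp hS'.extClass h := by
  rw [em_apply, em_apply, Ext.comp_assoc_of_third_deg_zero, hS.extClass_naturality hS' φ,
    Ext.comp_assoc_of_second_deg_zero]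

theorem f_delta {S : ShortComplex C} (hS : S.ShortExact) {j k : ℕ} (h : j + 1 = k) (x : Ext.{w} V S.X₃ j) :
    em V S.f k (x.comp hS.extClass h) = 0 := by
  rw [em_apply, Ext.comp_assoc_of_third_deg_zero, hS.extClass_comp, Ext.comp_zero]

theorem g_delta {S : ShortComplex C} (hS : S.ShortExact) {j k : ℕ} (h : j + 1 = k) (x : Ext.{w} V S.X₂ j) :
    (em V S.g j x).comp hS.extClass h = 0 := by
  rw [em_apply, Ext.comp_assoc_of_second_deg_zero, hS.comp_extClass, Ext.comp_zero]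

theorem good_of_zero_composite {L W Q R L' W' Q' R' : C}
    {ι : L ⟶ W} {α : W ⟶ Q} {hA : ι ≫ α = 0} (eA : (ShortComplex.mk ι α hA).ShortExact)
    {β : Q ⟶ W} {γ : W ⟶ R} {hB : β ≫ γ = 0} (eB : (ShortComplex.mk β γ hB).ShortExact)
    {ι' : L' ⟶ W'} {α' : W' ⟶ Q'} {hA' : ι' ≫ α' = 0} (eA' : (ShortComplex.mk ι' α' hA').ShortExact)
    {β' : Q' ⟶ W'} {γ' : W' ⟶ R'} {hB' : β' ≫ γ' = 0} (eB' : (ShortComplex.mk β' γ' hB').ShortExact)
    {fL : L ⟶ L'} {fW : W ⟶ W'} {fQ : Q ⟶ Q'} {fR : R ⟶ R'}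
    (c1 : fL ≫ ι' = ι ≫ fW) (c2 : fW ≫ α' = α ≫ fQ) (c3 : fQ ≫ β' = β ≫ fW) (c4 : fW ≫ γ' = γ ≫ fR)
    (hL : Good.{w} V fL) (hR : Good.{w} V fR)
    (z : ∀ j (x : Ext.{w} V W j), em V β j (em V α j x) = 0)
    (z' : ∀ j (x : Ext.{w} V W' j), em V β' j (em V α' j x) = 0) : Good.{w} V fW := by
  let φA : ShortComplex.mk ι α hA ⟶ ShortComplex.mk ι' α' hA' := ⟨fL, fW, fQ, c1, c2⟩
  let φB : ShortComplex.mk β γ hB ⟶ ShortComplex.mk β' γ' hB' := ⟨fQ, fW, fR, c3, c4⟩
  have winj : ∀ j, Function.Injective (em.{w} V fW j) := by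
    intro j
    rw [injective_iff_map_eq_zero]
    intro x hx
    have h1 : em V γ j x = 0 := (hR j).1 (by rw [map_zero, em_comp, ← c4, ← em_comp, hx, map_zero])
    obtain ⟨q, hq⟩ := Ext.covariant_sequence_exact₂ V eB x h1
    change em V β j q = x at hq
    obtain ⟨q₀, hq₀, hq₀'⟩ : ∃ q₀, em V β j q₀ = x ∧ em V fQ j q₀ = 0 := by
      have h2 : em V β' j (em V fQ j q) = 0 := by rw [em_comp, c3, ← em_comp, hq, hx]
      rcases j with - | j
      · haveI : Mono β' := eB'.mono_f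
        exact ⟨q, hq, em_inj_zero V β' (by rw [h2, map_zero])⟩
      · obtain ⟨r', hr'⟩ := Ext.covariant_sequence_exact₁ V eB' (em V fQ (j + 1) q) h2 rfl
        obtain ⟨r, rfl⟩ := (hR j).2 r'
        refine ⟨q - r.comp eB.extClass rfl, ?_, ?_⟩
        · rw [map_sub, hq, show em V β (j + 1) (r.comp eB.extClass rfl) = 0 from f_delta eB rfl r, sub_zero]
        · rw [map_sub, show em V fQ (j + 1) (r.comp eB.extClass rfl) = (em V fR j r).comp eB'.extClass rfl
            from delta_em eB eB' φB rfl r]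
          exact sub_eq_zero.2 hr'.symm
    have h3 : q₀.comp eA.extClass rfl = 0 := (hL (j + 1)).1 (by
      rw [map_zero, show em V fL (j + 1) (q₀.comp eA.extClass rfl) = (em V fQ j q₀).comp eA'.extClass rfl from
        delta_em eA eA' φA rfl q₀, hq₀', Ext.zero_comp])
    obtain ⟨w, rfl⟩ := Ext.covariant_sequence_exact₃ V eA q₀ rfl h3
    rw [← hq₀]
    exact z j w
  intro j
  refine ⟨winj j, fun y => ?_⟩
  obtain ⟨r, hr⟩ := (hR j).2 (em V γ' j y)
  have qinj : ∀ q : Ext.{w} V Q (j + 1), em V fQ (j + 1) q = 0 → q = 0 := by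
    intro q hq
    have h1 : q.comp eA.extClass rfl = 0 := (hL (j + 2)).1 (by
      rw [map_zero, show em V fL (j + 2) (q.comp eA.extClass rfl) = (em V fQ (j + 1) q).comp eA'.extClass rfl from
        delta_em eA eA' φA rfl q, hq, Ext.zero_comp])
    obtain ⟨w, rfl⟩ := Ext.covariant_sequence_exact₃ V eA q rfl h1
    change em V fQ (j + 1) (em V α (j + 1) w) = 0 at hq
    rw [em_comp, ← c2, ← em_comp] at hq
    obtain ⟨l', hl'⟩ := Ext.covariant_sequence_exact₂ V eA' (em V fW (j + 1) w) hq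
    obtain ⟨l, rfl⟩ := (hL (j + 1)).2 l'
    change em V ι' (j + 1) (em V fL (j + 1) l) = _ at hl'
    rw [em_comp, c1, ← em_comp] at hl'
    rw [← winj (j + 1) hl']
    show em V α (j + 1) (em V ι (j + 1) l) = 0
    rw [em_comp, hA, em_zero]
  have h1 : r.comp eB.extClass rfl = 0 := qinj _ (by
    rw [show em V fQ (j + 1) (r.comp eB.extClass rfl) = (em V fR j r).comp eB'.extClass rfl
      from delta_em eB eB' φB rfl r, hr]
    exact g_delta eB' rfl y)
  obtain ⟨x, hx⟩ := Ext.covariant_sequence_exact₃ V eB r rfl h1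
  change em V γ j x = r at hx
  have h2 : em V γ' j (y - em V fW j x) = 0 := by
    rw [map_sub, em_comp, c4, ← em_comp, hx, hr, sub_self]
  obtain ⟨q', hq'⟩ := Ext.covariant_sequence_exact₂ V eB' _ h2
  change em V β' j q' = _ at hq'
  obtain ⟨l, hl⟩ := (hL (j + 1)).2 (q'.comp eA'.extClass rfl)
  have h3 : em V ι (j + 1) l = 0 := winj (j + 1) (by
    rw [map_zero, em_comp, ← c1, ← em_comp, hl]
    exact f_delta eA' rfl q')
  obtain ⟨q, hq⟩ := Ext.covariant_sequence_exact₁ V eA l h3 (n₀ := j) rfl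
  have h4 : (q' - em V fQ j q).comp eA'.extClass rfl = 0 := by
    rw [sub_eq_add_neg, Ext.add_comp, Ext.neg_comp, ← sub_eq_add_neg, ← show em V fL (j + 1) (q.comp eA.extClass rfl) = (em V fQ j q).comp eA'.extClass rfl from
        delta_em eA eA' φA rfl q, hq, hl, sub_self]
  obtain ⟨w', hw'⟩ := Ext.covariant_sequence_exact₃ V eA' _ rfl h4
  change em V α' j w' = _ at hw'
  refine ⟨x + em V β j q, ?_⟩
  have h5 : em V β' j (q' - em V fQ j q) = 0 := by rw [← hw']; exact z' j w'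
  rw [map_sub, hq', em_comp, c3, ← em_comp, sub_sub, sub_eq_zero] at h5
  rw [map_add]; exact h5.symm

variable (V)

/-- `Ext^•(V, X) = 0`. -/
def Van (X : C) : Prop := ∀ j (x : Ext.{w} V X j), x = 0

variable {V}

theorem good_g {S : ShortComplex C} (hS : S.ShortExact) (h : Van.{w} V S.X₁) : Good.{w} V S.g := by
  refine fun j => ⟨(injective_iff_map_eq_zero _).2 fun x hx => ?_, fun y => ?_⟩
  · obtain ⟨x₁, rfl⟩ := Ext.covariant_sequence_exact₂ V hS x hx
    rw [h j x₁, Ext.zero_comp]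
  · exact Ext.covariant_sequence_exact₃ V hS y rfl (h _ _)

theorem good_f {S : ShortComplex C} (hS : S.ShortExact) (h : Van.{w} V S.X₃) : Good.{w} V S.f := by
  refine fun j => ⟨(injective_iff_map_eq_zero _).2 fun x hx => ?_, fun y => ?_⟩
  · rcases j with - | j
    · haveI : Mono S.f := hS.mono_f
      exact em_inj_zero V S.f (by rw [hx, map_zero])
    · obtain ⟨x₃, rfl⟩ := Ext.covariant_sequence_exact₁ V hS x hx rfl
      rw [h j x₃, Ext.zero_comp]
  · exact Ext.covariant_sequence_exact₂ V hS y (h _ _)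

theorem van_X₃ {S : ShortComplex C} (hS : S.ShortExact) (h : Good.{w} V S.f) : Van.{w} V S.X₃ := by
  intro j x
  have h1 : x.comp hS.extClass rfl = 0 := (h (j + 1)).1 (by
    rw [map_zero]; exact f_delta hS rfl x)
  obtain ⟨y, rfl⟩ := Ext.covariant_sequence_exact₃ V hS x rfl h1
  obtain ⟨z, rfl⟩ := (h j).2 y
  show em V S.g j (em V S.f j z) = 0
  rw [em_comp, S.zero, em_zero]

theorem good_comp {X Y Z : C} {f : X ⟶ Y} {g : Y ⟶ Z} (hf : Good.{w} V f) (hg : Good.{w} V g) :
    Good.{w} V (f ≫ g) := fun j => by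
  have : (em.{w} V (f ≫ g) j : Ext.{w} V X j → Ext.{w} V Z j) = em V g j ∘ em V f j := by
    funext x; exact (em_comp V f g x).symm
  rw [this]; exact (hg j).comp (hf j)

section adj

variable {D : Type u'} [Category.{v'} D] [Abelian D] [HasExt.{w} D] [EnoughInjectives D]
  {F : C ⥤ D} {G : D ⥤ C} (adj : F ⊣ G) [F.Additive] [G.Additive]
  [PreservesFiniteLimits F] [PreservesFiniteColimits F] [PreservesFiniteLimits G] [PreservesFiniteColimits G]

/-- `Ext^n(X, G Y) → Ext^n(F X, Y)`. -/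
noncomputable def extAdj (X : C) (Y : D) (n : ℕ) : Ext.{w} X (G.obj Y) n →+ Ext.{w} (F.obj X) Y n :=
  (em (F.obj X) (adj.counit.app Y) n).comp (F.mapExtAddHom X (G.obj Y) n)

theorem extAdj_apply {X : C} {Y : D} {n : ℕ} (x : Ext.{w} X (G.obj Y) n) :
    extAdj adj X Y n x = (x.mapExactFunctor F).comp (Ext.mk₀ (adj.counit.app Y)) (add_zero n) := rfl

theorem extAdj_em (X : C) {Y Y' : D} (f : Y ⟶ Y') {n : ℕ} (x : Ext.{w} X (G.obj Y) n) :
    em (F.obj X) f n (extAdj adj X Y n x) = extAdj adj X Y' n (em X (G.map f) n x) := by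
  simp only [extAdj_apply, em_apply, Ext.mapExactFunctor_comp, Ext.mapExactFunctor_mk₀,
    Ext.comp_assoc_of_second_deg_zero, Ext.mk₀_comp_mk₀]
  congr 2
  exact (adj.counit.naturality f).symm

theorem extAdj_delta (X : C) {S : ShortComplex D} (hS : S.ShortExact) {n : ℕ}
    (x : Ext.{w} X (G.obj S.X₃) n) :
    (extAdj adj X S.X₃ n x).comp hS.extClass rfl =
      extAdj adj X S.X₁ (n + 1) (x.comp (hS.map_of_exact G).extClass rfl) := by
  let ψ : (S.map G).map F ⟶ S :=
    ⟨adj.counit.app S.X₁, adj.counit.app S.X₂, adj.counit.app S.X₃,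
      (adj.counit.naturality S.f).symm, (adj.counit.naturality S.g).symm⟩
  have hnat := ((hS.map_of_exact G).map_of_exact F).extClass_naturality hS ψ
  have key : ∀ c : Ext.{w} (G.obj S.X₃) (G.obj S.X₁) 1,
      (Ext.mk₀ (adj.counit.app S.X₃)).comp hS.extClass (zero_add 1) =
        (c.mapExactFunctor F).comp (Ext.mk₀ (adj.counit.app S.X₁)) (add_zero 1) →
      (extAdj adj X S.X₃ n x).comp hS.extClass rfl = extAdj adj X S.X₁ (n + 1) (x.comp c rfl) := by
    intro c hc
    rw [extAdj_apply, extAdj_apply, Ext.mapExactFunctor_comp, Ext.comp_assoc_of_second_deg_zero,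
      Ext.comp_assoc_of_third_deg_zero, hc]
  refine key (hS.map_of_exact G).extClass ?_
  erw [Ext.mapExactFunctor_extClass]
  exact hnat.symm

theorem extAdj_bijective (X : C) : ∀ (n : ℕ) (Y : D), Function.Bijective (extAdj.{w} adj X Y n) := by
  intro n
  induction n with
  | zero =>
    intro Y
    have : (extAdj.{w} adj X Y 0 : _ → _) =
        Ext.mk₀ ∘ (adj.homEquiv X Y).symm ∘ Ext.addEquiv₀ := by
      funext x
      obtain ⟨f, rfl⟩ := Ext.addEquiv₀.symm.surjective x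
      show extAdj adj X Y 0 (Ext.mk₀ f) = Ext.mk₀ ((adj.homEquiv X Y).symm (Ext.addEquiv₀ (Ext.addEquiv₀.symm f)))
      rw [AddEquiv.apply_symm_apply, extAdj_apply, Ext.mapExactFunctor_mk₀, Ext.mk₀_comp_mk₀, Adjunction.homEquiv_counit]
    rw [this]
    exact (Ext.mk₀_bijective _ _).comp ((adj.homEquiv X Y).symm.bijective.comp Ext.addEquiv₀.bijective)
  | succ n ih =>
    intro Y
    let ip := (EnoughInjectives.presentation Y).some
    let S := ShortComplex.mk ip.f (cokernel.π ip.f) (cokernel.condition _)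
    have hS : S.ShortExact := { exact := ShortComplex.exact_of_g_is_cokernel _ (cokernelIsCokernel _) }
    have hG := hS.map_of_exact G
    haveI : Injective S.X₂ := ip.injective
    haveI : F.PreservesMonomorphisms := inferInstance
    haveI : Injective (G.obj S.X₂) := Injective.injective_of_adjoint adj S.X₂
    refine ⟨(injective_iff_map_eq_zero _).2 fun x hx => ?_, fun y => ?_⟩
    · haveI : Injective (S.map G).X₂ := ‹Injective (G.obj S.X₂)›
      obtain ⟨z, rfl⟩ := Ext.covariant_sequence_exact₁ X hG x (Ext.eq_zero_of_injective _) (n₀ := n) rfl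
      change Ext.{w} X (G.obj S.X₃) n at z
      change extAdj adj X S.X₁ (n + 1) (z.comp hG.extClass rfl) = 0 at hx
      rw [← extAdj_delta adj X hS z] at hx
      obtain ⟨y, hy⟩ := Ext.covariant_sequence_exact₃ (F.obj X) hS _ rfl hx
      obtain ⟨e, rfl⟩ := (ih S.X₂).2 y
      change em (F.obj X) S.g n _ = _ at hy
      rw [extAdj_em] at hy
      rw [← (ih S.X₃).1 hy]
      exact g_delta hG rfl e
    · obtain ⟨z, rfl⟩ := Ext.covariant_sequence_exact₁ (F.obj X) hS (n₁ := n + 1) y (Ext.eq_zero_of_injective _) (n₀ := n) rfl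
      obtain ⟨e, rfl⟩ := (ih S.X₃).2 z
      exact ⟨e.comp hG.extClass rfl, (extAdj_delta adj X hS e).symm⟩

end adj

end TorsBCLib
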