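import Mathlib
import Groth.Agent.TorsBCLib.Generic
import Groth.Agent.FlatCxLib.Extend
import Groth.Prelude.Def_Wider

/-! Flat base change of Ext out of torsion modules along an isomorphism modulo a finitely generated ideal. -/

set_option autoImplicit false
set_option linter.style.haveILetI false
universe u

open CategoryTheory Limits Abelian
open scoped TensorProduct

namespace TorsBCLib

variable {A : Type u} [CommRing A] (I : Ideal A)

/-- `M` is killed by `I`. -/
def Killed (M : ModuleCat.{u} A) : Prop := ∀ a ∈ I, ∀ m : M, a • m = 0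

theorem smul_id_eq_zero {V : ModuleCat.{u} A} (hV : Killed I V) {a : A} (ha : a ∈ I) : a • 𝟙 V = 0 := by
  ext x; exact hV a ha x

theorem smul_ext_eq_zero {V X : ModuleCat.{u} A} (hV : Killed I V) {a : A} (ha : a ∈ I) {j : ℕ}
    (x : Ext.{u} V X j) : a • x = 0 := by
  conv_lhs => rw [← Ext.mk₀_id_comp x]
  rw [← Ext.smul_comp]
  have : a • Ext.mk₀ (𝟙 V) = (Ext.mk₀ (0 : V ⟶ V) : Ext.{u} V V 0) := by
    rw [← smul_id_eq_zero I hV ha, Ext.mk₀_smul]
  rw [this, Ext.mk₀_zero, Ext.zero_comp]

theorem em_smul_eq_zero {V X : ModuleCat.{u} A} (hV : Killed I V) {a : A} (ha : a ∈ I) {j : ℕ}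
    (x : Ext.{u} V X j) : em V (a • 𝟙 X) j x = 0 := by
  rw [em_apply, Ext.mk₀_smul, Ext.comp_smul, smul_ext_eq_zero I hV ha]

/-- Kernel–image sequence. -/
noncomputable def kerSeq {M N : ModuleCat.{u} A} (f : M →ₗ[A] N) : ShortComplex (ModuleCat.{u} A) :=
  ShortComplex.mk (ModuleCat.ofHom (LinearMap.ker f).subtype) (ModuleCat.ofHom f.rangeRestrict)
    (by ext x; exact x.2)

theorem kerSeq_shortExact {M N : ModuleCat.{u} A} (f : M →ₗ[A] N) : (kerSeq f).ShortExact := by
  refine ShortComplex.ShortExact.mk' ?_ ?_ ?_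
  · refine ShortComplex.Exact.moduleCat_of_range_eq_ker _ _ ?_
    show LinearMap.range (LinearMap.ker f).subtype = LinearMap.ker f.rangeRestrict
    rw [Submodule.range_subtype, LinearMap.ker_rangeRestrict]
  · exact (ModuleCat.mono_iff_injective _).2 Subtype.val_injective
  · exact (ModuleCat.epi_iff_surjective _).2 f.surjective_rangeRestrict

/-- Image–cokernel sequence. -/
noncomputable def cokerSeq {M N : ModuleCat.{u} A} (f : M →ₗ[A] N) : ShortComplex (ModuleCat.{u} A) :=
  ShortComplex.mk (ModuleCat.ofHom (LinearMap.range f).subtype) (ModuleCat.ofHom (LinearMap.range f).mkQ)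
    (by ext x; exact (Submodule.Quotient.mk_eq_zero _).2 x.2)

theorem cokerSeq_shortExact {M N : ModuleCat.{u} A} (f : M →ₗ[A] N) : (cokerSeq f).ShortExact := by
  refine ShortComplex.ShortExact.mk' ?_ ?_ ?_
  · refine ShortComplex.Exact.moduleCat_of_range_eq_ker _ _ ?_
    show LinearMap.range (LinearMap.range f).subtype = LinearMap.ker (LinearMap.range f).mkQ
    rw [Submodule.range_subtype, Submodule.ker_mkQ]
  · exact (ModuleCat.mono_iff_injective _).2 Subtype.val_injective
  · exact (ModuleCat.epi_iff_surjective _).2 (Submodule.mkQ_surjective _)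

section main

variable (T : ModuleCat.{u} A ⥤ ModuleCat.{u} A) [T.Additive] [PreservesFiniteLimits T] [PreservesFiniteColimits T]
  (η : 𝟭 (ModuleCat.{u} A) ⟶ T)
  (hT : ∀ (a : A) (W : ModuleCat.{u} A), T.map (a • 𝟙 W) = a • 𝟙 (T.obj W))
  (hiso : ∀ W : ModuleCat.{u} A, Killed I W → IsIso (η.app W))

include hT hiso in
theorem good_of_ideal (l : List A) (hl : ∀ a ∈ l, a ∈ I) {V : ModuleCat.{u} A} (hV : Killed I V) :
    ∀ W : ModuleCat.{u} A, (∀ (J : Ideal A), (∀ a ∈ J, ∀ w : W, a • w = 0) →
      I ≤ J ⊔ Ideal.span {x | x ∈ l} → Good.{u} V (η.app W)) := by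
  induction l with
  | nil =>
    intro W J hJ hIJ
    haveI := hiso W fun a ha w => hJ a (by simpa using hIJ ha) w
    exact fun j => em_bijective_of_isIso V _ j
  | cons f l ih =>
    intro W J hJ hIJ
    have hf : f ∈ I := hl f List.mem_cons_self
    let φ : W →ₗ[A] W := LinearMap.lsmul A W f
    have hle : I ≤ (J ⊔ Ideal.span {f}) ⊔ Ideal.span {x | x ∈ l} := by
      refine hIJ.trans (sup_le (le_sup_of_le_left le_sup_left) (Ideal.span_le.2 fun x hx => ?_))
      rcases List.mem_cons.1 hx with rfl | hx
      · exact Ideal.mem_sup_left (Ideal.mem_sup_right (Ideal.mem_span_singleton_self _))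
      · exact Ideal.mem_sup_right (Ideal.subset_span hx)
    have hkill : ∀ (U : ModuleCat.{u} A), (∀ a ∈ J, ∀ w : U, a • w = 0) → (∀ w : U, f • w = 0) →
        Good.{u} V (η.app U) := fun U h1 h2 => ih (fun a ha => hl a (List.mem_cons_of_mem _ ha)) U
      (J ⊔ Ideal.span {f}) (fun a ha w => by
        obtain ⟨b, hb, c, hc, rfl⟩ := Submodule.mem_sup.1 ha
        obtain ⟨d, rfl⟩ := Ideal.mem_span_singleton'.1 hc
        rw [add_smul, h1 b hb, mul_smul, h2, smul_zero, add_zero]) hle
    have hA := kerSeq_shortExact φ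
    have hB := cokerSeq_shortExact φ
    have hA' := hA.map_of_exact T
    have hB' := hB.map_of_exact T
    have hcomp : (kerSeq φ).g ≫ (cokerSeq φ).f = f • 𝟙 W := by ext x; rfl
    refine good_of_zero_composite hA hB hA' hB' (fL := η.app _) (fW := η.app W) (fQ := η.app _) (fR := η.app _)
      (η.naturality _).symm (η.naturality _).symm (η.naturality _).symm (η.naturality _).symm
      (hkill (ModuleCat.of A (LinearMap.ker φ)) ?_ ?_) (hkill (ModuleCat.of A (W ⧸ LinearMap.range φ)) ?_ ?_) ?_ ?_
    · exact fun a ha w => Subtype.ext (hJ a ha w.1)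
    · exact fun w => Subtype.ext w.2
    · intro a ha w
      obtain ⟨x, rfl⟩ := Submodule.mkQ_surjective _ w
      rw [← map_smul, hJ a ha, map_zero]
    · intro w
      obtain ⟨x, rfl⟩ := Submodule.mkQ_surjective _ w
      rw [← map_smul]
      exact (Submodule.Quotient.mk_eq_zero _).2 ⟨x, rfl⟩
    · intro j x
      rw [em_comp]
      exact (congrArg (fun g => em V g j x) hcomp).trans (em_smul_eq_zero I hV hf x)
    · intro j x
      rw [em_comp]
      exact (congrArg (fun g => em V g j x) ((T.map_comp _ _).symm.trans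
        ((congrArg T.map hcomp).trans (hT f W)))).trans (em_smul_eq_zero I hV hf x)

include hT hiso in
theorem good_app (hI : I.FG) {V : ModuleCat.{u} A} (hV : Killed I V) (W : ModuleCat.{u} A) :
    Good.{u} V (η.app W) := by
  obtain ⟨S, hS⟩ := hI
  refine good_of_ideal I T η hT hiso S.toList (fun a ha => hS ▸ Ideal.subset_span (Finset.mem_toList.1 ha)) hV W ⊥
    (fun a ha w => by rw [(Submodule.mem_bot A).1 ha, zero_smul]) ?_
  rw [bot_sup_eq, ← hS]
  exact Ideal.span_mono fun x hx => Finset.mem_toList.2 hx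

end main

section torsion

/-- vanishing for modules killed by `I` gives vanishing for modules killed by a power of `I` -/
theorem van_pow {X : ModuleCat.{u} A} (hX : ∀ V : ModuleCat.{u} A, Killed I V → Van.{u} V X) :
    ∀ (n : ℕ) (V : ModuleCat.{u} A), Killed (I ^ n) V → Van.{u} V X := by
  intro n
  induction n with
  | zero => exact fun V hV => hX V fun a _ m => hV a (by simp) m
  | succ n ih =>
    intro V hV j x
    let N : Submodule A V := I • (⊤ : Submodule A V)
    let S : ShortComplex (ModuleCat.{u} A) := ShortComplex.mk (X₂ := V) (ModuleCat.ofHom N.subtype) (ModuleCat.ofHom N.mkQ)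
      (by ext v; exact (Submodule.Quotient.mk_eq_zero _).2 v.2)
    have hS : S.ShortExact := by
      refine ShortComplex.ShortExact.mk' ?_ ?_ ?_
      · refine ShortComplex.Exact.moduleCat_of_range_eq_ker _ _ ?_
        show LinearMap.range N.subtype = LinearMap.ker N.mkQ
        rw [Submodule.range_subtype, Submodule.ker_mkQ]
      · exact (ModuleCat.mono_iff_injective _).2 Subtype.val_injective
      · exact (ModuleCat.epi_iff_surjective _).2 (Submodule.mkQ_surjective _)
    have h1 : (Ext.mk₀ S.f).comp x (zero_add j) = 0 := ih (ModuleCat.of A N) (by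
      intro a ha m
      refine Subtype.ext ?_
      show a • (m : V) = 0
      have hm : (m : V) ∈ I • (⊤ : Submodule A V) := m.2
      refine Submodule.smul_induction_on hm (fun r hr v _ => ?_) (fun v w hv hw => by rw [smul_add, hv, hw, add_zero])
      rw [← mul_smul]
      exact hV _ (by rw [pow_succ]; exact Ideal.mul_mem_mul ha hr) v) j _
    obtain ⟨y, rfl⟩ := Ext.contravariant_sequence_exact₂ hS X x h1
    rw [hX (ModuleCat.of A (V ⧸ N)) (fun a ha m => by
      obtain ⟨v, rfl⟩ := Submodule.mkQ_surjective _ m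
      rw [← map_smul]
      exact (Submodule.Quotient.mk_eq_zero _).2 (Submodule.smul_mem_smul ha trivial)) j y, Ext.comp_zero]

/-- inclusion of a summand -/
noncomputable def sumIn {ι : Type u} [DecidableEq ι] (V : ι → ModuleCat.{u} A) (i : ι) :
    V i ⟶ ModuleCat.of A (DirectSum ι fun i => V i) := ModuleCat.ofHom (DirectSum.lof A ι (fun i => V i) i)

theorem directSum_eq_zero {ι : Type u} [DecidableEq ι] (V : ι → ModuleCat.{u} A) :
    ∀ (j : ℕ) (X : ModuleCat.{u} A), (∀ i (x : Ext.{u} (V i) X j), x = 0) →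
      ∀ x : Ext.{u} (ModuleCat.of A (DirectSum ι fun i => V i)) X j, x = 0 := by
  intro j
  induction j with
  | zero =>
    intro X h x
    obtain ⟨f, rfl⟩ := Ext.addEquiv₀.symm.surjective x
    rw [EmbeddingLike.map_eq_zero_iff]
    refine ModuleCat.hom_ext (DirectSum.linearMap_ext A fun i => ?_)
    have := (Ext.mk₀_eq_zero_iff _).1 (h i (Ext.mk₀ (sumIn V i ≫ f)))
    exact congrArg ModuleCat.Hom.hom this
  | succ j ih =>
    intro X h x
    let ip := (EnoughInjectives.presentation X).some
    let S := ShortComplex.mk ip.f (cokernel.π ip.f) (cokernel.condition _)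
    have hS : S.ShortExact := { exact := ShortComplex.exact_of_g_is_cokernel _ (cokernelIsCokernel _) }
    haveI : Injective S.X₂ := ip.injective
    obtain ⟨y, rfl⟩ := Ext.covariant_sequence_exact₁ _ hS (n₁ := j + 1) x (Ext.eq_zero_of_injective _) (n₀ := j) rfl
    have hy : ∀ i (z : Ext.{u} (V i) S.X₃ j), ∃ e, em (V i) S.g j e = z := fun i z =>
      Ext.covariant_sequence_exact₃ (V i) hS z rfl (h i _)
    rcases j with - | j
    · obtain ⟨f, rfl⟩ := Ext.addEquiv₀.symm.surjective y
      have : ∀ i, ∃ g : V i ⟶ S.X₂, g ≫ S.g = sumIn V i ≫ f := fun i => by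
        obtain ⟨e, he⟩ := hy i (Ext.mk₀ (sumIn V i ≫ f))
        obtain ⟨g, rfl⟩ := (Ext.mk₀_bijective _ _).2 e
        rw [em_apply, Ext.mk₀_comp_mk₀] at he
        exact ⟨g, (Ext.mk₀_bijective _ _).1 he⟩
      choose g hg using this
      let G : ModuleCat.of A (DirectSum ι fun i => V i) ⟶ S.X₂ :=
        ModuleCat.ofHom (DirectSum.toModule A ι S.X₂ fun i => (g i).hom)
      have hG : G ≫ S.g = f := by
        refine ModuleCat.hom_ext (DirectSum.linearMap_ext A fun i => LinearMap.ext fun v => ?_)
        refine Eq.trans ?_ (congrArg (fun q : V i ⟶ S.X₃ => q.hom v) (hg i))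
        show S.g.hom (DirectSum.toModule A ι S.X₂ (fun i => (g i).hom) (DirectSum.lof A ι (fun i => V i) i v)) = _
        rw [DirectSum.toModule_lof]; rfl
      show (Ext.mk₀ f).comp hS.extClass rfl = 0
      rw [← hG, ← Ext.mk₀_comp_mk₀]
      exact g_delta hS rfl (Ext.mk₀ G)
    · rw [ih S.X₃ (fun i z => by
        obtain ⟨e, rfl⟩ := hy i z
        rw [Ext.eq_zero_of_injective e, map_zero]) y, Ext.zero_comp]

theorem van_torsion {X : ModuleCat.{u} A} (hX : ∀ V : ModuleCat.{u} A, Killed I V → Van.{u} V X) :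
    ∀ (j : ℕ) (V : ModuleCat.{u} A), LocCoh.IsPowerTorsion I V → ∀ x : Ext.{u} V X j, x = 0 := by
  classical
  intro j
  induction j with
  | zero =>
    intro V hV x
    obtain ⟨f, rfl⟩ := Ext.addEquiv₀.symm.surjective x
    rw [EmbeddingLike.map_eq_zero_iff]
    ext v
    obtain ⟨n, hn⟩ := hV v
    let P := ModuleCat.of A (A ⧸ I ^ n)
    let g : P ⟶ V := ModuleCat.ofHom ((I ^ n).liftQ (LinearMap.toSpanSingleton A V v) fun a ha => hn a ha)
    have hP : Killed (I ^ n) P := fun a ha m => by
      obtain ⟨m, rfl⟩ := Submodule.mkQ_surjective (I ^ n) m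
      rw [← map_smul]
      exact (Submodule.Quotient.mk_eq_zero _).2 ((I ^ n).mul_mem_right m ha)
    have h0 := (Ext.mk₀_eq_zero_iff _).1 (van_pow I hX n P hP 0 (Ext.mk₀ (g ≫ f)))
    have h1 : f.hom (g.hom (Submodule.Quotient.mk 1)) = 0 := congrArg (fun q : P ⟶ X => q.hom (Submodule.Quotient.mk 1)) h0
    have h2 : g.hom (Submodule.Quotient.mk 1) = v := (Submodule.liftQ_apply _ _ 1).trans (one_smul A v)
    rw [h2] at h1
    exact h1
  | succ j ih =>
    intro V hV x
    choose n hn using hV
    let P : V → ModuleCat.{u} A := fun v => ModuleCat.of A (A ⧸ I ^ n v)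
    have hP : ∀ v, Killed (I ^ n v) (P v) := fun v a ha m => by
      obtain ⟨m, rfl⟩ := Submodule.mkQ_surjective (I ^ n v) m
      rw [← map_smul]
      exact (Submodule.Quotient.mk_eq_zero _).2 ((I ^ n v).mul_mem_right m ha)
    obtain ⟨DS, q, hq, key, hvan⟩ : ∃ (DS : ModuleCat.{u} A) (q : DS ⟶ V), Function.Surjective q.hom ∧
        LocCoh.IsPowerTorsion I DS ∧ ∀ z : Ext.{u} DS X (j + 1), z = 0 := by
      refine ⟨ModuleCat.of A (DirectSum V fun v => P v), ModuleCat.ofHom (DirectSum.toModule A _ V fun v =>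
        (I ^ n v).liftQ (LinearMap.toSpanSingleton A V v) fun a ha => hn v a ha), ?_, ?_,
        directSum_eq_zero P (j + 1) X fun v z => van_pow I hX (n v) (P v) (hP v) (j + 1) z⟩
      · intro v
        refine ⟨DirectSum.lof A _ (fun v => P v) v (Submodule.Quotient.mk 1), ?_⟩
        refine (DirectSum.toModule_lof A v _).trans ?_
        exact (Submodule.liftQ_apply _ _ _).trans (one_smul A v)
      · intro y
        induction y using DirectSum.induction_on with
        | zero => exact ⟨0, fun a _ => smul_zero a⟩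
        | of v m =>
          refine ⟨n v, fun a ha => ?_⟩
          refine ((DirectSum.lof A V (fun v => P v) v).map_smul a m).symm.trans ?_
          rw [hP v a ha m, map_zero]
        | add y y' hy hy' =>
          obtain ⟨m, hm⟩ := hy
          obtain ⟨m', hm'⟩ := hy'
          refine ⟨max m m', fun a ha => ?_⟩
          refine (smul_add a y y').trans ?_
          rw [hm a (Ideal.pow_le_pow_right (le_max_left _ _) ha),
            hm' a (Ideal.pow_le_pow_right (le_max_right _ _) ha)]
          exact add_zero _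
    let S : ShortComplex (ModuleCat.{u} A) := ShortComplex.mk
      (ModuleCat.ofHom (LinearMap.ker q.hom).subtype) q (by ext z; exact z.2)
    have hS : S.ShortExact := by
      refine ShortComplex.ShortExact.mk' ?_ ?_ ?_
      · refine ShortComplex.Exact.moduleCat_of_range_eq_ker _ _ ?_
        show LinearMap.range (LinearMap.ker q.hom).subtype = LinearMap.ker q.hom
        rw [Submodule.range_subtype]
      · exact (ModuleCat.mono_iff_injective _).2 Subtype.val_injective
      · exact (ModuleCat.epi_iff_surjective _).2 hq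
    obtain ⟨x₁, rfl⟩ := Ext.contravariant_sequence_exact₃ hS X x (hvan _) (n₀ := j) (by omega)
    rw [ih (ModuleCat.of A (LinearMap.ker q.hom)) ?_ x₁, Ext.comp_zero]
    intro z
    obtain ⟨m, hm⟩ := key (z : LinearMap.ker q.hom).1
    exact ⟨m, fun a ha => Subtype.ext (hm a ha)⟩

end torsion

section flat

variable (B : Type u) [CommRing B] [Algebra A B]

theorem isIso_unit (hs : Function.Surjective ((Ideal.Quotient.mk (I.map (algebraMap A B))).comp (algebraMap A B)))
    (hk : RingHom.ker ((Ideal.Quotient.mk (I.map (algebraMap A B))).comp (algebraMap A B)) = I)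
    (W : Type u) [AddCommGroup W] [Module A W] (hW : ∀ a ∈ I, ∀ w : W, a • w = 0) :
    Function.Bijective (fun w : W => (1 : B) ⊗ₜ[A] w) := by
  have hJ : ∀ b ∈ I.map (algebraMap A B), ∀ w : W, b ⊗ₜ[A] w = 0 := by
    intro b hb
    induction hb using Submodule.span_induction with
    | mem x hx =>
      obtain ⟨a, ha, rfl⟩ := hx
      intro w
      rw [Algebra.algebraMap_eq_smul_one, TensorProduct.smul_tmul, hW a ha, TensorProduct.tmul_zero]
    | zero => intro w; exact TensorProduct.zero_tmul B w
    | add x y _ _ hx hy => intro w; rw [TensorProduct.add_tmul, hx, hy, add_zero]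
    | smul c x _ hx =>
      intro w
      have := congrArg (fun z => c • z) (hx w)
      simpa [TensorProduct.smul_tmul'] using this
  choose σ hσ using fun b : B => hs (Ideal.Quotient.mk _ b)
  have hmem : ∀ b : B, b - algebraMap A B (σ b) ∈ I.map (algebraMap A B) := fun b =>
    Ideal.Quotient.eq.1 (hσ b).symm
  have hI' : ∀ a a' : A, algebraMap A B a - algebraMap A B a' ∈ I.map (algebraMap A B) → a - a' ∈ I := by
    intro a a' h
    have h2 : a - a' ∈ RingHom.ker ((Ideal.Quotient.mk (I.map (algebraMap A B))).comp (algebraMap A B)) := by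
      rw [RingHom.mem_ker, map_sub, sub_eq_zero]
      exact Ideal.Quotient.eq.2 h
    rwa [hk] at h2
  have hred : ∀ a a' : A, a - a' ∈ I → ∀ w : W, a • w = a' • w := fun a a' h w =>
    sub_eq_zero.1 (by rw [← sub_smul]; exact hW _ h w)
  let L : B ⊗[A] W →ₗ[A] W := TensorProduct.lift (LinearMap.mk₂ A (fun b w => σ b • w)
    (fun b b' w => by
      rw [← add_smul]
      refine hred _ _ (hI' _ _ ?_) w
      have := sub_mem (add_mem (hmem b) (hmem b')) (hmem (b + b'))
      rw [map_add]
      convert this using 1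
      ring)
    (fun a b w => by
      rw [← mul_smul]
      refine hred _ _ (hI' _ _ ?_) w
      have := sub_mem (Ideal.mul_mem_left _ (algebraMap A B a) (hmem b)) (hmem (a • b))
      rw [map_mul]
      convert this using 1
      rw [Algebra.smul_def]; ring)
    (fun b w w' => smul_add _ _ _) (fun a b w => smul_comm _ _ _))
  have hL : ∀ w, L ((1 : B) ⊗ₜ[A] w) = w := fun w => by
    show σ (1 : B) • w = w
    conv_rhs => rw [← one_smul A w]
    exact hred _ _ (hI' _ _ (by simpa using neg_mem (hmem (1 : B)))) w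
  refine ⟨Function.LeftInverse.injective hL, fun z => ⟨L z, ?_⟩⟩
  show (1 : B) ⊗ₜ[A] (L z) = z
  induction z using TensorProduct.induction_on with
  | zero => simp
  | add x y hx hy => rw [map_add, TensorProduct.tmul_add, hx, hy]
  | tmul b w =>
    show (1 : B) ⊗ₜ[A] (σ b • w) = b ⊗ₜ[A] w
    rw [← TensorProduct.smul_tmul, ← Algebra.algebraMap_eq_smul_one, eq_comm, ← sub_eq_zero,
      ← TensorProduct.sub_tmul]
    exact hJ _ (hmem b) w

variable [Module.Flat A B]

theorem ext_iso (hI : I.FG)
    (hs : Function.Surjective ((Ideal.Quotient.mk (I.map (algebraMap A B))).comp (algebraMap A B)))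
    (hk : RingHom.ker ((Ideal.Quotient.mk (I.map (algebraMap A B))).comp (algebraMap A B)) = I)
    (M N : ModuleCat.{u} A) (hM : LocCoh.IsPowerTorsion I M) (n : ℕ) :
    Nonempty (Ext.{u} M N n ≃+ Ext.{u} ((ModuleCat.extendScalars.{u, u, u} (algebraMap A B)).obj M)
      ((ModuleCat.extendScalars.{u, u, u} (algebraMap A B)).obj N) n) := by
  let F : ModuleCat.{u} A ⥤ ModuleCat.{u} B := ModuleCat.extendScalars.{u, u, u} (algebraMap A B)
  let G : ModuleCat.{u} B ⥤ ModuleCat.{u} A := ModuleCat.restrictScalars.{u} (algebraMap A B)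
  let adj : F ⊣ G := ModuleCat.extendRestrictScalarsAdj.{u, u, u} (algebraMap A B)
  haveI : PreservesFiniteLimits F :=
    ModuleCat.preservesFiniteLimits_extendScalars_of_flat (RingHom.flat_algebraMap_iff.2 inferInstance)
  haveI : F.IsLeftAdjoint := adj.isLeftAdjoint
  haveI : PreservesFiniteColimits F := inferInstance
  haveI : G.IsRightAdjoint := adj.isRightAdjoint
  haveI : PreservesFiniteLimits G := inferInstance
  haveI : PreservesFiniteColimits G := inferInstance
  haveI : F.Additive := Functor.additive_of_preserves_binary_products F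
  haveI : G.Additive := Functor.additive_of_preserves_binary_products G
  let η : 𝟭 (ModuleCat.{u} A) ⟶ F ⋙ G := adj.unit
  have hT : ∀ (a : A) (W : ModuleCat.{u} A), (F ⋙ G).map (a • 𝟙 W) = a • 𝟙 ((F ⋙ G).obj W) := by
    intro a W
    refine ModuleCat.hom_ext (LinearMap.ext fun z => ?_)
    refine (FlatCxLib.extEquiv (B := B) W).injective ?_
    refine (FlatCxLib.extEquiv_map (B := B) (a • 𝟙 W) z).trans ?_
    change _ = FlatCxLib.extEquiv (B := B) W (algebraMap A B a • (show ((ModuleCat.extendScalars.{u, u, u} (algebraMap A B)).obj W : Type u) from z))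
    rw [map_smul, algebraMap_smul]
    generalize FlatCxLib.extEquiv (B := B) W _ = z'
    induction z' using TensorProduct.induction_on with
    | zero => simp
    | add x y hx hy => rw [map_add, hx, hy, smul_add]
    | tmul b w =>
      rw [LinearMap.baseChange_tmul]
      exact TensorProduct.tmul_smul a b w
  have hiso : ∀ W : ModuleCat.{u} A, Killed I W → IsIso (η.app W) := by
    intro W hW
    rw [ConcreteCategory.isIso_iff_bijective]
    have h := isIso_unit I B hs hk W hW
    exact ((FlatCxLib.extEquiv (B := B) W).symm.bijective.comp h :)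
  let f : N →ₗ[A] G.obj (F.obj N) := (η.app N).hom
  let K := kerSeq (M := N) (N := G.obj (F.obj N)) f
  let C' := cokerSeq (M := N) (N := G.obj (F.obj N)) f
  have hK : K.ShortExact := kerSeq_shortExact _
  have hC : C'.ShortExact := cokerSeq_shortExact _
  have hfac : K.g ≫ C'.f = η.app N := by ext x; rfl
  haveI hFη : Mono (F.map (η.app N)) := by
    refine ⟨fun a b hab => ?_⟩
    have h := congrArg (fun z => z ≫ adj.counit.app (F.obj N)) hab
    have htri : F.map (η.app N) ≫ adj.counit.app (F.obj N) = 𝟙 (F.obj N) := adj.left_triangle_components N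
    simpa [Category.assoc, htri] using h
  haveI : Mono (F.map K.g) := by
    haveI : Mono (F.map K.g ≫ F.map C'.f) := by rw [← F.map_comp, hfac]; exact hFη
    exact mono_of_mono (F.map K.g) (F.map C'.f)
  have hFK : IsZero (F.obj K.X₁) := by
    have hKF := hK.map_of_exact F
    haveI : Mono (F.map K.f) := hKF.mono_f
    refine IsZero.of_mono_eq_zero (F.map K.f) ?_
    rw [← cancel_mono (F.map K.g), zero_comp, ← F.map_comp, K.zero, F.map_zero]
  have hT3 : IsIso ((F ⋙ G).map K.g) := by
    haveI : Epi (F.map K.g) := (hK.map_of_exact F).epi_g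
    haveI : IsIso (F.map K.g) := isIso_of_mono_of_epi _
    show IsIso (G.map (F.map K.g)); infer_instance
  have hIm : η.app K.X₃ = C'.f ≫ (F ⋙ G).map K.g := by
    haveI := hK.epi_g
    exact (cancel_epi K.g).1 ((η.naturality K.g).trans
      ((congrArg (fun q => q ≫ (F ⋙ G).map K.g) hfac.symm).trans (Category.assoc _ _ _)))
  have van1 : ∀ V : ModuleCat.{u} A, Killed I V → Van.{u} V K.X₁ := by
    intro V hV j x
    refine (good_app I (F ⋙ G) η hT hiso hI hV K.X₁ j).1 ?_
    rw [map_zero, em_apply, (G.map_isZero hFK).eq_of_tgt (η.app K.X₁) 0, Ext.mk₀_zero, Ext.comp_zero]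
  have van3 : ∀ V : ModuleCat.{u} A, Killed I V → Van.{u} V C'.X₃ := by
    intro V hV
    refine van_X₃ hC fun j => ?_
    have h := good_app I (F ⋙ G) η hT hiso hI hV K.X₃ j
    rw [hIm] at h
    have hcomp : (em.{u} V (C'.f ≫ (F ⋙ G).map K.g) j : _ → _) = em V ((F ⋙ G).map K.g) j ∘ em V C'.f j := by
      funext x; exact (em_comp V _ _ x).symm
    exact (Function.Bijective.of_comp_iff' (@em_bijective_of_isIso _ _ _ _ V _ _ _ hT3 j) _).1 (Eq.subst (motive := Function.Bijective) hcomp h)
  have hgood : Good.{u} M (η.app N) := by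
    rw [← hfac]
    exact good_comp (good_g hK fun j x => van_torsion I van1 j M hM x)
      (good_f hC fun j x => van_torsion I van3 j M hM x)
  exact ⟨(AddEquiv.ofBijective (em M (η.app N) n) (hgood n)).trans
    (AddEquiv.ofBijective (extAdj adj M (F.obj N) n) (extAdj_bijective adj M n (F.obj N)))⟩

end flat

end TorsBCLib
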